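import Cfsg.Agent.H757.Sf.Five
import Cfsg.Agent.H745.Q.Cen_mg
set_option linter.all false

/-! # S5176, section 5.0: the structure `TQ` of helper745 for case (A8) -/
set_option autoImplicit false
set_option linter.unusedSectionVars false

open Cfsg Cfsg.FusionSystem Cfsg.Agent.H752 Cfsg.Agent.H784.SF Cfsg.Agent.H784.Q

universe u

namespace Cfsg.Agent.H784.Q

variable {Ω : Type u} [Group Ω] {S : Subgroup Ω} [Finite S] {F : FusionSystem S} {R : Subgroup Ω} {a b z r : Ω} {m : ℕ}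
  {t c d k w : Ω} {β : Ω → Ω}

theorem CaseA8.qK (h : CaseA8 F R a b z r m t c d k w β) : QR (centralizerIn S R) k w z c m :=
  ⟨h.sit.qr.m3, h.kK, h.wK, h.ok, h.k_half.symm, h.c_eq, h.ww, h.wk, h.wn, h.Kgen⟩

theorem CaseA8.tq (h : CaseA8 F R a b z r m t c d k w β) :
    Cfsg.Agent.H745.Q.TQ S R a b r (centralizerIn S R) k w c z d m :=
  ⟨h.sit.qr, h.qK, h.sit.RS, inf_le_left, fun x hx y hy => ((mem_centK.mp hy).2 x hx).symm, h.dS, h.da, h.dk,
    by rw [mul_assoc, h.bd2]; group, by rw [mul_assoc, h.wd2]; group, fun s hs => h.RK_cases hs⟩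

end Cfsg.Agent.H784.Q
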