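import Cfsg.Agent.H752.Mp
import Cfsg.Agent.H752.Ext
import Cfsg.Agent.H784.SF.MainB
import Cfsg.Prelude.Def_CaseTheorems
set_option linter.all false

-- part: H784/Q/Defs
section
/-! # S5176: definitions (plan: tools/plans/S5176.md) -/
set_option autoImplicit false

namespace Cfsg.Agent.H784.Q
open Cfsg Cfsg.FusionSystem Cfsg.Agent.H752 Cfsg.Agent.H784.SF

universe u

variable {Ω : Type u} [Group Ω] {S : Subgroup Ω}

/-- `R = ⟨a, b⟩` is generalized quaternion of order `2^(m+1) ≥ 16`; `a` has order `2^m`, `z` is the involution, `r ∈ ⟨a⟩` has order 4. -/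
structure QR (R : Subgroup Ω) (a b z r : Ω) (m : ℕ) : Prop where
  m3 : 3 ≤ m
  aR : a ∈ R
  bR : b ∈ R
  oa : orderOf a = 2 ^ m
  hz : z = a ^ 2 ^ (m - 1)
  hr : r = a ^ 2 ^ (m - 2)
  bb : b * b = z
  ba : b * a = a⁻¹ * b
  bA : b ∉ Subgroup.zpowers a
  gen : ∀ x ∈ R, ∃ i : ℕ, x = a ^ i ∨ x = b * a ^ i

/-- The situation of S5176. `K = centralizerIn S R`; `CE F z t`: `z` is sent to `t` by a map of `F`. -/
structure Sit (F : FusionSystem S) (R : Subgroup Ω) (a b z r : Ω) (m : ℕ) : Prop where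
  qr : QR R a b z r m
  hS : IsPGroup 2 S
  sat : F.IsSaturated 2
  RS : R ≤ S
  /-- `R` is weakly closed -/
  weak : ∀ (P : Subgroup Ω) (f : Ω → Ω), Mp F P f → R ≤ P → ∀ x ∈ R, f x ∈ R
  /-- `R` is strongly closed in `C_F(y)` for the involutions `y` of `C_S(R)` -/
  cen : ∀ y ∈ centralizerIn S R, y * y = 1 → y ≠ 1 → ∀ (P : Subgroup Ω) (f : Ω → Ω), Mp F P f → y ∈ P → f y = y →
    ∀ x ∈ R, x ∈ P → f x ∈ R
  foc : F.focalSubgroup = S
  nz : ∃ t, t ≠ z ∧ CE F z t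

/-- The centralizer of an element in `S`. -/
abbrev CS (S : Subgroup Ω) (t : Ω) : Subgroup Ω := centralizerIn S (Subgroup.zpowers t)

/-- `t ∈ z^F`, `t ≠ z`, and `β ∈ Aut_F(C_S(t))` of odd order permutes the involutions of `⟨z, t⟩`: `z → t → tz → z`. -/
structure VD (F : FusionSystem S) (z t : Ω) (β : Ω → Ω) : Prop where
  cj : CE F z t
  ne : t ≠ z
  mp : Mp F (CS S t) β
  maps : ∀ x ∈ CS S t, β x ∈ CS S t
  surj : ∀ x ∈ CS S t, ∃ y ∈ CS S t, β y = x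
  βz : β z = t
  βt : β t = t * z
  odd : ∃ n : ℕ, Odd n ∧ ∀ x ∈ CS S t, β^[n] x = x

/-- Type A: `t` centralizes `⟨a⟩` and acts as conjugation by `r`. -/
structure TyA (S R : Subgroup Ω) (a z r t : Ω) : Prop where
  ta : t * a = a * t
  cen : ∀ x ∈ R, t * x = x * t → x ∈ Subgroup.zpowers a
  ex : ∃ c ∈ centralizerIn S R, t = r * c ∧ c * c = z

/-- Type SD: `t` inverts `⟨a⟩` and `t⁻¹ b t = b a^j`, `j` odd. -/
structure TySD (R : Subgroup Ω) (a b z t : Ω) : Prop where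
  ta : t * a = a⁻¹ * t
  cen : ∀ x ∈ R, t * x = x * t → x = 1 ∨ x = z
  ex : ∃ j : ℕ, Odd j ∧ t⁻¹ * b * t = b * a ^ j

end Cfsg.Agent.H784.Q
end

-- part: H757/Sf/Basic
section
/-! # S5176, section 1: facts (A), (C), (D), (F) (plan: tools/plans/S5176.md) -/
set_option autoImplicit false
set_option linter.unusedSectionVars false

open Cfsg Cfsg.FusionSystem Cfsg.Agent.H752 Cfsg.Agent.H784.SF Cfsg.Agent.H784.Q

universe u

namespace Cfsg.Agent.H784.Q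

variable {Ω : Type u} [Group Ω] {S : Subgroup Ω} [Finite S] {F : FusionSystem S} {R : Subgroup Ω} {a b z r : Ω} {m : ℕ}

/-! ## The quaternion group -/

namespace QR

variable (q : QR R a b z r m)
include q

theorem zz : z * z = 1 := by
  rw [q.hz, ← pow_add, ← two_mul, ← pow_succ', Nat.sub_add_cancel (by have := q.m3; omega), ← q.oa, pow_orderOf_eq_one]

theorem z_ne : z ≠ 1 := by
  intro h
  rw [q.hz] at h
  have h1 := orderOf_dvd_of_pow_eq_one h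
  rw [q.oa] at h1
  have h2 := (Nat.pow_dvd_pow_iff_le_right (by norm_num : 1 < 2)).mp h1
  have := q.m3
  omega

theorem zR : z ∈ R := by rw [q.hz]; exact pow_mem q.aR _

theorem rR : r ∈ R := by rw [q.hr]; exact pow_mem q.aR _

theorem rr : r * r = z := by
  rw [q.hr, q.hz, ← pow_add, ← two_mul, ← pow_succ']
  congr 2
  have := q.m3
  omega

theorem ba_pow (i : ℕ) : b * a ^ i = (a ^ i)⁻¹ * b := by
  induction i with
  | zero => simp
  | succ i ih => rw [pow_succ, ← mul_assoc, ih, mul_assoc, q.ba]; group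

theorem ba_zpow (i : ℤ) : b * a ^ i = (a ^ i)⁻¹ * b := by
  rcases Int.eq_nat_or_neg i with ⟨n, rfl | rfl⟩
  · rw [zpow_natCast]; exact q.ba_pow n
  · rw [zpow_neg, zpow_natCast, inv_inv]
    have h := q.ba_pow n
    rw [eq_comm, ← mul_right_inj (a ^ n), ← mul_left_inj (a ^ n)⁻¹] at h
    rw [← mul_assoc, mul_inv_cancel, one_mul] at h
    rw [h]
    group

/-- elements outside `⟨a⟩` square to `z`. -/
theorem sq_out {x : Ω} (hx : x ∈ R) (hxA : x ∉ Subgroup.zpowers a) : x * x = z := by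
  obtain ⟨i, rfl | rfl⟩ := q.gen x hx
  · exact absurd (Subgroup.npow_mem_zpowers a i) hxA
  · have h1 : b * a ^ i * (b * a ^ i) = b * (a ^ i * (b * a ^ i)) := by group
    rw [h1, q.ba_pow, mul_inv_cancel_left, q.bb]

theorem az : z * a = a * z := by rw [q.hz, ← pow_succ, ← pow_succ']

theorem bz : z * b = b * z := by rw [← q.bb, mul_assoc]

theorem commz {x : Ω} (hx : x ∈ R) : z * x = x * z := by
  have h : ∀ i : ℕ, z * a ^ i = a ^ i * z := fun i => (Commute.pow_right (show Commute z a from q.az) i)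
  obtain ⟨i, rfl | rfl⟩ := q.gen x hx
  · exact h i
  · rw [← mul_assoc, q.bz, mul_assoc, h, mul_assoc]

theorem zinv : z⁻¹ = z := inv_eq_of_mul_eq_one_right q.zz

theorem a_two_pow : a ^ 2 ^ m = 1 := by rw [← q.oa, pow_orderOf_eq_one]

/-- the elements of order at most two of `⟨a⟩`. -/
theorem sqA {i : ℕ} (h : a ^ i * a ^ i = 1) : a ^ i = 1 ∨ a ^ i = z := by
  rw [← pow_add, ← two_mul] at h
  have h1 := orderOf_dvd_of_pow_eq_one h
  obtain ⟨k, hk⟩ : 2 ^ (m - 1) ∣ i := by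
    rw [q.oa, show 2 ^ m = 2 * 2 ^ (m - 1) from by rw [← pow_succ']; congr 1; have := q.m3; omega] at h1
    exact Nat.dvd_of_mul_dvd_mul_left (by norm_num) h1
  rw [hk, pow_mul, ← q.hz]
  rcases Nat.even_or_odd' k with ⟨l, rfl | rfl⟩
  · left; rw [pow_mul, pow_two, q.zz, one_pow]
  · right; rw [pow_succ, pow_mul, pow_two, q.zz, one_pow, one_mul]

/-- `z` is the only involution of `R`. -/
theorem uniq {x : Ω} (hx : x ∈ R) (hxx : x * x = 1) (h1 : x ≠ 1) : x = z := by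
  by_cases hA : x ∈ Subgroup.zpowers a
  · obtain ⟨i, rfl | rfl⟩ := q.gen x hx
    · exact (q.sqA hxx).resolve_left h1
    · have h2 : b * a ^ i * (b * a ^ i) = b * (a ^ i * (b * a ^ i)) := by group
      rw [h2, q.ba_pow, mul_inv_cancel_left, q.bb] at hxx
      exact absurd hxx q.z_ne
  · exact absurd ((q.sq_out hx hA).symm.trans hxx) q.z_ne

theorem bA' (i : ℕ) : b * a ^ i ∉ Subgroup.zpowers a := fun h =>
  q.bA (by simpa using mul_mem h (inv_mem (Subgroup.npow_mem_zpowers a i)))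

theorem ra : r * a = a * r := by rw [q.hr, ← pow_succ, ← pow_succ']

theorem r_four : r * r * (r * r) = 1 := by rw [q.rr, q.zz]

theorem br : b * r = r⁻¹ * b := by rw [q.hr]; exact q.ba_pow _

/-- elements outside `⟨a⟩` invert it. -/
theorem out_inv {x : Ω} (hx : x ∈ R) (hxA : x ∉ Subgroup.zpowers a) (n : ℤ) : x * a ^ n = (a ^ n)⁻¹ * x := by
  obtain ⟨i, rfl | rfl⟩ := q.gen x hx
  · exact absurd (Subgroup.npow_mem_zpowers a i) hxA
  · rw [mul_assoc, ← zpow_natCast, ← zpow_add, add_comm, zpow_add, ← mul_assoc, q.ba_zpow, mul_assoc]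

theorem out_eq {x : Ω} (hx : x ∈ R) (hxA : x ∉ Subgroup.zpowers a) : ∃ i : ℕ, x = b * a ^ i := by
  obtain ⟨i, h | h⟩ := q.gen x hx
  · exact absurd (h ▸ Subgroup.npow_mem_zpowers a i) hxA
  · exact ⟨i, h⟩

end QR

/-! ## Generalities on fusion systems -/

theorem mem_sup_zpowers {A : Subgroup Ω} {x y : Ω} (hx : x ∈ A) (hy : y ∈ A) :
    Subgroup.zpowers x ⊔ Subgroup.zpowers y ≤ A :=
  sup_le (by rwa [Subgroup.zpowers_le]) (by rwa [Subgroup.zpowers_le])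

/-- a receptive `⟨x⟩`. -/
theorem ce_receptive {x : Ω} (hr : F.IsReceptive (Subgroup.zpowers x)) {y : Ω} (h : CE F y x) :
    ∃ ψ, Mp F (CS S y) ψ ∧ ψ y = x := by
  obtain ⟨φ, hφ, h1⟩ := ce_iff.mpr h
  have hrange : φ.range = Subgroup.zpowers x := by
    ext w
    constructor
    · rintro ⟨⟨_, n, rfl⟩, rfl⟩
      have : φ ⟨y ^ n, ⟨n, rfl⟩⟩ = x ^ n := by
        rw [← h1]; exact map_zpow φ ⟨y, Subgroup.mem_zpowers y⟩ n
      change φ ⟨y ^ n, _⟩ ∈ _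
      rw [this]
      exact Subgroup.zpow_mem _ (Subgroup.mem_zpowers x) n
    · rintro ⟨n, rfl⟩
      refine ⟨⟨y ^ n, ⟨n, rfl⟩⟩, ?_⟩
      rw [← h1]; exact map_zpow φ ⟨y, Subgroup.mem_zpowers y⟩ n
  obtain ⟨ψ, hψ, h2⟩ := hr.2 _ φ hφ hrange
  have hle := H802.centralizerIn_le_extender S (Subgroup.zpowers y) φ
  have hyS : y ∈ S := (F.le_of_mem hφ).1 (Subgroup.mem_zpowers y)
  have hy : y ∈ centralizerIn S (Subgroup.zpowers y) := mem_cent.mpr ⟨hyS, rfl⟩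
  refine ⟨ex ψ, (mp_ex hψ).res hle, ?_⟩
  rw [ex_apply _ (hle hy), h2 y (Subgroup.mem_zpowers y) (hle hy), h1]

/-- a fully centralized conjugate of an element. -/
theorem exists_fc (hF : F.IsSaturated 2) {y : Ω} (hy : y ∈ S) :
    ∃ y₀, CE F y y₀ ∧ ∀ w, CE F w y₀ → ∃ ψ, Mp F (CS S w) ψ ∧ ψ w = y₀ := by
  obtain ⟨Q, ⟨χ, hχ, hχR⟩, -, hrec⟩ := hF (Subgroup.zpowers y) (by rwa [Subgroup.zpowers_le])
  have hm := mp_ex hχ
  have hyy := Subgroup.mem_zpowers y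
  have hQ : Q = Subgroup.zpowers (ex χ y) := by
    rw [← hχR]
    ext w
    constructor
    · rintro ⟨⟨_, n, rfl⟩, rfl⟩
      refine ⟨n, ?_⟩
      change ex χ y ^ n = _
      rw [← mp_zpow hm hyy, ex_apply _ (Subgroup.zpow_mem _ hyy n)]
    · rintro ⟨n, rfl⟩
      change ex χ y ^ n ∈ _
      rw [← mp_zpow hm hyy, ex_apply _ (Subgroup.zpow_mem _ hyy n)]
      exact ⟨_, rfl⟩
  rw [hQ] at hrec
  exact ⟨_, CE.of_mp hm hyy, fun w hw => ce_receptive hrec hw⟩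

theorem ce_sq {x y : Ω} (h : CE F x y) (hx : x * x = 1) : y * y = 1 := by
  obtain ⟨f, hf, rfl⟩ := h
  have h1 := Subgroup.mem_zpowers x
  rw [← hf.mul h1 h1, hx, hf.one]

theorem ce_ne_one {x y : Ω} (h : CE F x y) (hx : x ≠ 1) : y ≠ 1 := by
  obtain ⟨f, hf, rfl⟩ := h
  intro h2
  exact hx (hf.inj (Subgroup.mem_zpowers x) (one_mem _) (h2.trans hf.one.symm))

theorem ce_right {x y : Ω} (h : CE F x y) : y ∈ S := by
  obtain ⟨f, hf, rfl⟩ := h
  exact hf.mem (Subgroup.mem_zpowers x)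

theorem ce_left {x y : Ω} (h : CE F x y) : x ∈ S := ce_right h.symm

theorem mem_centK {s : Ω} : s ∈ centralizerIn S R ↔ s ∈ S ∧ ∀ x ∈ R, s * x = x * s := by
  constructor
  · rintro ⟨h1, h2⟩
    exact ⟨h1, fun x hx => (Subgroup.mem_centralizer_iff.mp h2 x hx).symm⟩
  · rintro ⟨h1, h2⟩
    exact ⟨h1, Subgroup.mem_centralizer_iff.mpr fun x hx => (h2 x hx).symm⟩

/-! ## The situation -/

variable (h : Sit F R a b z r m)
include h

theorem Sit.Rn : ∀ s ∈ S, ∀ x ∈ R, s * x * s⁻¹ ∈ R := fun _ hs x hx => h.weak R _ (mp_conj F h.RS hs) le_rfl x hx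

theorem Sit.zS : z ∈ S := h.RS h.qr.zR

theorem Sit.z_centr : ∀ s ∈ S, s * z = z * s := by
  intro s hs
  have h1 : s * z * s⁻¹ = z := by
    refine h.qr.uniq (h.Rn s hs z h.qr.zR) ?_ ?_
    · have : s * z * s⁻¹ * (s * z * s⁻¹) = s * (z * z) * s⁻¹ := by group
      rw [this, h.qr.zz]; group
    · intro h2
      apply h.qr.z_ne
      have : z = s⁻¹ * (s * z * s⁻¹) * s := by group
      rw [this, h2]; group
  exact mul_inv_eq_iff_eq_mul.mp h1

theorem Sit.zK : z ∈ centralizerIn S R := mem_centK.mpr ⟨h.zS, fun _ hx => h.qr.commz hx⟩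

theorem Sit.CSz : CS S z = S := le_antisymm inf_le_left fun s hs => mem_cent.mpr ⟨hs, h.z_centr s hs⟩

theorem Sit.fcz : F.IsFullyCentralized (Subgroup.zpowers z) := by
  refine ⟨by rw [Subgroup.zpowers_le]; exact h.zS, fun Q _ => ?_⟩
  have h1 : centralizerIn S (Subgroup.zpowers z) = S := h.CSz
  rw [h1]
  exact Subgroup.card_le_of_le inf_le_left

theorem Sit.toZ {y : Ω} (hy : CE F y z) : ∃ ψ, Mp F (CS S y) ψ ∧ ψ y = z := by
  have : Fact (Nat.Prime 2) := ⟨Nat.prime_two⟩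
  exact ce_receptive (H802.isReceptive_of_isFullyCentralized h.hS h.sat h.fcz) hy

theorem Sit.R_le_CS {y : Ω} (hyK : y ∈ centralizerIn S R) : R ≤ CS S y := fun x hx =>
  mem_cent.mpr ⟨h.RS hx, ((mem_centK.mp hyK).2 x hx).symm⟩

/-- a map defined on `R` fixes `z`. -/
theorem Sit.fix_of_R {P : Subgroup Ω} {f : Ω → Ω} (hf : Mp F P f) (hR : R ≤ P) : f z = z := by
  have hz := hR h.qr.zR
  refine h.qr.uniq (h.weak P f hf hR z h.qr.zR) (by rw [← hf.mul hz hz, h.qr.zz, hf.one]) fun h1 => ?_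
  exact h.qr.z_ne (hf.inj hz (one_mem _) (h1.trans hf.one.symm))

theorem Sit.factA {y : Ω} (hy : CE F z y) (hyK : y ∈ centralizerIn S R) : y = z := by
  obtain ⟨χ, hχ, hχy⟩ := h.toZ hy.symm
  have hR := h.R_le_CS hyK
  exact hχ.inj (mem_cent.mpr ⟨hyK.1, rfl⟩) (hR h.qr.zR) (hχy.trans (h.fix_of_R hχ hR).symm)

theorem Sit.factC {P : Subgroup Ω} {f : Ω → Ω} (hf : Mp F P f) (hz : z ∈ P) (hfz : f z = z) :
    ∀ x ∈ R, x ∈ P → f x ∈ R :=
  h.cen z h.zK h.qr.zz h.qr.z_ne P f hf hz hfz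

theorem Sit.R_surj {P : Subgroup Ω} {f : Ω → Ω} (hf : Mp F P f) (hR : R ≤ P) {x : Ω} (hx : x ∈ R) :
    ∃ y ∈ R, f y = x := by
  have : Finite R := H802.finite_of_le h.RS
  exact (hf.res hR).surj (h.weak P f hf hR) hx

theorem Sit.factD {P : Subgroup Ω} {f : Ω → Ω} (hf : Mp F P f) (hz : z ∈ P) {y : Ω} (hy : y ∈ P)
    (hyK : y ∈ centralizerIn S R) (hy2 : y * y = 1) (hy1 : y ≠ 1) (hfy : f y ∈ centralizerIn S R) : f z = z := by
  obtain ⟨y₀, hyy₀, hfc⟩ := exists_fc h.sat hyK.1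
  obtain ⟨χ, hχ, hχy⟩ := hfc y hyy₀
  obtain ⟨χ', hχ', hχy'⟩ := hfc (f y) ((CE.of_mp hf hy).symm.trans hyy₀)
  have hR := h.R_le_CS hyK
  have hR' := h.R_le_CS hfy
  have hχz := h.fix_of_R hχ hR
  have hχz' := h.fix_of_R hχ' hR'
  have hyC : y ∈ CS S y := mem_cent.mpr ⟨hyK.1, rfl⟩
  have hzC : z ∈ CS S y := hR h.qr.zR
  have hy₀K : y₀ ∈ centralizerIn S R := by
    refine mem_centK.mpr ⟨ce_right hyy₀, fun x hx => ?_⟩
    obtain ⟨x', hx', rfl⟩ := h.R_surj hχ hR hx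
    rw [← hχy, ← hχ.mul hyC (hR hx'), ← hχ.mul (hR hx') hyC, (mem_centK.mp hyK).2 x' hx']
  -- the inverse of `χ` on `⟨y, z⟩`
  have hD1 : Subgroup.zpowers y ⊔ Subgroup.zpowers z ≤ CS S y := mem_sup_zpowers hyC hzC
  have hD2 : Subgroup.zpowers y ⊔ Subgroup.zpowers z ≤ P := mem_sup_zpowers hy hz
  have hyD : y ∈ Subgroup.zpowers y ⊔ Subgroup.zpowers z := Subgroup.mem_sup_left (Subgroup.mem_zpowers y)
  have hzD : z ∈ Subgroup.zpowers y ⊔ Subgroup.zpowers z := Subgroup.mem_sup_right (Subgroup.mem_zpowers z)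
  obtain ⟨T, hT, -, -⟩ := hχ.exists_image hD1
  obtain ⟨g, hg, hg1, hg2⟩ := hχ.exists_symm hD1 hT
  have hm1 : ∀ x ∈ T, g x ∈ P := fun x hx => hD2 (hg2 x hx).1
  have hm2 : ∀ x ∈ T, f (g x) ∈ CS S (f y) := by
    intro x hx
    have h1 := (hg2 x hx).1
    refine mem_cent.mpr ⟨hf.mem (hD2 h1), ?_⟩
    rw [← hf.mul (hD2 h1) hy, ← hf.mul hy (hD2 h1), (mem_cent.mp (hD1 h1)).2]
  have hmp : Mp F T (fun x => χ' (f (g x))) := (hg.comp hf hm1).comp hχ' hm2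
  have hzT : z ∈ T := (hT z).mpr ⟨z, hzD, hχz⟩
  have hyT : y₀ ∈ T := (hT y₀).mpr ⟨y, hyD, hχy⟩
  have hgz : g z = z := by have := hg1 z hzD; rwa [hχz] at this
  have hgy : g y₀ = y := by have := hg1 y hyD; rwa [hχy] at this
  have h1 := h.cen y₀ hy₀K (ce_sq hyy₀ hy2) (ce_ne_one hyy₀ hy1) T _ hmp hyT (by simp only [hgy, hχy']) z h.qr.zR hzT
  simp only [hgz] at h1
  have hfzC : f z ∈ CS S (f y) := by have := hm2 z hzT; rwa [hgz] at this
  have h2 : χ' (f z) = z := by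
    refine h.qr.uniq h1 ?_ ?_
    · rw [← hχ'.mul hfzC hfzC, ← hf.mul hz hz, h.qr.zz, hf.one, hχ'.one]
    · intro h3
      exact h.qr.z_ne (hf.inj hz (one_mem _) (hχ'.inj hfzC (one_mem _ |> fun h4 => by rw [hf.one]; exact h4) (by rw [h3, hf.one, hχ'.one])))
  exact hχ'.inj hfzC (hR' h.qr.zR) (h2.trans hχz'.symm)

/-! ## (F) -/

theorem Sit.not_K {t : Ω} (ht : CE F z t) (hne : t ≠ z) : t ∉ centralizerIn S R := fun h1 => hne (h.factA ht h1)

theorem Sit.tt {t : Ω} (ht : CE F z t) : t * t = 1 := ce_sq ht h.qr.zz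

theorem Sit.t_ne {t : Ω} (ht : CE F z t) : t ≠ 1 := ce_ne_one ht h.qr.z_ne

theorem Sit.factF {t : Ω} (ht : CE F z t) (hne : t ≠ z) : ∃ ρ ∈ R, ρ⁻¹ * t * ρ = t * z := by
  have : Fact (Nat.Prime 2) := ⟨Nat.prime_two⟩
  have htS := ce_right ht
  have htt := h.tt ht
  have htinv : t⁻¹ = t := inv_eq_of_mul_eq_one_right htt
  have hRt : ∀ x ∈ R, t * x * t ∈ R := fun x hx => by have := h.Rn t htS x hx; rwa [htinv] at this
  have hswap : ∀ x ∈ R, ∃ x' ∈ R, t * x = x' * t := fun x hx => ⟨t * x * t, hRt x hx, by rw [mul_assoc, htt, mul_one]⟩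
  -- the group `R⟨t⟩`
  let X : Subgroup Ω :=
    { carrier := {x | ∃ ρ ∈ R, x = ρ ∨ x = ρ * t}
      one_mem' := ⟨1, one_mem _, Or.inl rfl⟩
      mul_mem' := by
        rintro x y ⟨p, hp, hx⟩ ⟨s, hs, hy⟩
        rcases hx with rfl | rfl
        · rcases hy with rfl | rfl
          · exact ⟨_, mul_mem hp hs, Or.inl rfl⟩
          · exact ⟨_, mul_mem hp hs, Or.inr (mul_assoc _ _ _).symm⟩
        · obtain ⟨s', hs', h1⟩ := hswap s hs
          rcases hy with rfl | rfl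
          · exact ⟨p * s', mul_mem hp hs', Or.inr (by rw [mul_assoc, h1, mul_assoc])⟩
          · refine ⟨p * s', mul_mem hp hs', Or.inl ?_⟩
            have h2 : p * t * (s * t) = p * (t * s) * t := by group
            rw [h2, h1]
            have h3 : p * (s' * t) * t = p * s' * (t * t) := by group
            rw [h3, htt, mul_one]
      inv_mem' := by
        rintro x ⟨p, hp, rfl | rfl⟩
        · exact ⟨_, inv_mem hp, Or.inl rfl⟩
        · obtain ⟨s', hs', h1⟩ := hswap _ (inv_mem hp)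
          exact ⟨s', hs', Or.inr (by rw [mul_inv_rev, htinv, h1])⟩ }
  have hXS : X ≤ S := by
    rintro x ⟨p, hp, rfl | rfl⟩
    · exact h.RS hp
    · exact mul_mem (h.RS hp) htS
  have htX : t ∈ X := ⟨1, one_mem _, Or.inr (one_mul _).symm⟩
  have hRX : R ≤ X := fun x hx => ⟨x, hx, Or.inl rfl⟩
  have hlt : centralizerIn X (Subgroup.zpowers t) < X := by
    refine lt_of_le_of_ne inf_le_left fun heq => ?_
    apply h.not_K ht hne
    refine mem_centK.mpr ⟨htS, fun x hx => ?_⟩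
    have h1 : x ∈ centralizerIn X (Subgroup.zpowers t) := by rw [heq]; exact hRX hx
    exact (mem_cent.mp h1).2.symm
  obtain ⟨g, hgX, hgn, hgN⟩ := H759.exists_mem_normalizer_not_mem h.hS hXS hlt
  -- replace `g` by an element of `R`
  obtain ⟨ρ, hρ, hρn, hρN⟩ : ∃ ρ ∈ R, ρ ∉ centralizerIn X (Subgroup.zpowers t) ∧
      ρ ∈ Subgroup.normalizer (centralizerIn X (Subgroup.zpowers t) : Set Ω) := by
    obtain ⟨p, hp, rfl | rfl⟩ := hgX
    · exact ⟨_, hp, hgn, hgN⟩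
    · have h1 : t ∈ centralizerIn X (Subgroup.zpowers t) := mem_cent.mpr ⟨htX, rfl⟩
      refine ⟨p, hp, fun h2 => hgn (mul_mem h2 h1), ?_⟩
      have h3 := mul_mem hgN (Subgroup.le_normalizer h1)
      rwa [mul_assoc, htt, mul_one] at h3
  have h1 : t ∈ centralizerIn X (Subgroup.zpowers t) := mem_cent.mpr ⟨htX, rfl⟩
  have h2 : ρ⁻¹ * t * ρ ∈ centralizerIn X (Subgroup.zpowers t) := by
    have := (Subgroup.mem_normalizer_iff.mp (inv_mem hρN) t).mp h1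
    rwa [inv_inv] at this
  have h3 : ρ⁻¹ * t * ρ * t = t * (ρ⁻¹ * t * ρ) := (mem_cent.mp h2).2
  have h4 : t * (ρ⁻¹ * t * ρ) = z := by
    refine h.qr.uniq ?_ ?_ ?_
    · have h5 := mul_mem (hRt _ (inv_mem hρ)) hρ
      have h6 : t * (ρ⁻¹ * t * ρ) = t * ρ⁻¹ * t * ρ := by group
      rwa [h6]
    · have h5 : t * (ρ⁻¹ * t * ρ) * (t * (ρ⁻¹ * t * ρ)) = t * (ρ⁻¹ * t * ρ * t) * (ρ⁻¹ * t * ρ) := by group
      rw [h5, h3]
      have h6 : t * (t * (ρ⁻¹ * t * ρ)) * (ρ⁻¹ * t * ρ) = t * t * (ρ⁻¹ * (t * t) * ρ) := by group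
      rw [h6, htt]; group
    · intro h5
      apply hρn
      refine mem_cent.mpr ⟨hRX hρ, ?_⟩
      have h6 : ρ⁻¹ * t * ρ = t := by
        rw [← mul_right_inj t, h5, htt]
      have h7 : ρ * (ρ⁻¹ * t * ρ) = ρ * t := by rw [h6]
      rw [← h7]; group
  refine ⟨ρ, hρ, ?_⟩
  rw [← h4, ← mul_assoc, htt, one_mul]

end Cfsg.Agent.H784.Q
end
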