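import Cfsg.Agent.H745.Q.Gen_mg
import Cfsg.Agent.H780.QBasB
import Cfsg.Agent.H784.Q.NF
set_option linter.all false

/-! # S5176, section 5.0: computations in `S`, case (A8) (interface: tools/plans/S5176_five.lean) -/
set_option autoImplicit false
set_option linter.unusedSectionVars false

open Cfsg Cfsg.FusionSystem Cfsg.Agent.H752 Cfsg.Agent.H784.SF Cfsg.Agent.H784.Q

universe u

namespace Cfsg.Agent.H784.Q

variable {Ω : Type u} [Group Ω] {S : Subgroup Ω} [Finite S] {F : FusionSystem S} {R : Subgroup Ω} {a b z r : Ω} {m : ℕ}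
  {t c d k w : Ω} {β : Ω → Ω}

/-- integral powers of elements of finite order are natural powers. -/
theorem zpow_exists_nat {g : Ω} {n : ℕ} (hn : g ^ 2 ^ n = 1) (i : ℤ) : ∃ j : ℕ, g ^ i = g ^ j := by
  have hpos : (0 : ℤ) < ((2 ^ n : ℕ) : ℤ) := by positivity
  refine ⟨(i % ((2 ^ n : ℕ) : ℤ)).toNat, ?_⟩
  have h1 := Int.emod_nonneg i hpos.ne'
  rw [← zpow_natCast, Int.toNat_of_nonneg h1]
  conv_lhs => rw [← Int.emod_add_mul_ediv i ((2 ^ n : ℕ) : ℤ)]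
  rw [zpow_add, zpow_mul, zpow_natCast, hn, one_zpow, mul_one]

section
variable (h : CaseA8 F R a b z r m t c d k w β)
include h

theorem CaseA8.d_two_pow : d ^ 2 ^ m = 1 := by rw [← h.od, pow_orderOf_eq_one]

theorem CaseA8.mem_Mz {x : Ω} :
    x ∈ Subgroup.zpowers a ⊔ Subgroup.zpowers d ↔ ∃ i j : ℤ, x = a ^ i * d ^ j := h.toCaseA.mem_M

theorem CaseA8.mem_M {x : Ω} :
    x ∈ Subgroup.zpowers a ⊔ Subgroup.zpowers d ↔ ∃ i j : ℕ, x = a ^ i * d ^ j := by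
  rw [h.mem_Mz]
  constructor
  · rintro ⟨i, j, rfl⟩
    obtain ⟨i', hi⟩ := zpow_exists_nat h.sit.qr.a_two_pow i
    obtain ⟨j', hj⟩ := zpow_exists_nat h.d_two_pow j
    exact ⟨i', j', by rw [hi, hj]⟩
  · rintro ⟨i, j, rfl⟩
    exact ⟨i, j, by rw [zpow_natCast, zpow_natCast]⟩

theorem CaseA8.wa : w * a = a * w := (mem_centK.mp h.wK).2 a h.sit.qr.aR

theorem CaseA8.wb : w * b = b * w := (mem_centK.mp h.wK).2 b h.sit.qr.bR

theorem CaseA8.wr : w * r = r * w := (mem_centK.mp h.wK).2 r h.sit.qr.rR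

theorem CaseA8.wS : w ∈ S := h.wK.1

theorem CaseA8.kS : k ∈ S := h.kK.1

theorem CaseA8.ka : k * a = a * k := (mem_centK.mp h.kK).2 a h.sit.qr.aR

theorem CaseA8.kb : k * b = b * k := (mem_centK.mp h.kK).2 b h.sit.qr.bR

theorem CaseA8.cb : c * b = b * c := (mem_centK.mp h.cK).2 b h.sit.qr.bR

theorem CaseA8.ca : c * a = a * c := (mem_centK.mp h.cK).2 a h.sit.qr.aR

theorem CaseA8.cr : c * r = r * c := (mem_centK.mp h.cK).2 r h.sit.qr.rR

theorem CaseA8.dd : d * d = k * a := by rw [h.hk]; group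

theorem CaseA8.dk : d * k = k * d := by
  have hc : Commute d a := h.da
  rw [h.hk]
  have h1 : Commute d (d * d * a⁻¹) := ((Commute.refl d).mul_right (Commute.refl d)).mul_right hc.inv_right
  exact h1

theorem CaseA8.c_eq : c = k ^ 2 ^ (m - 2) := by
  have hc : Commute d a := h.da
  have hm := h.sit.qr.m3
  have h1 : k ^ 2 ^ (m - 2) = t * r⁻¹ := by
    rw [h.hk, ((hc.mul_left hc).inv_right).mul_pow, inv_pow, ← h.sit.qr.hr, h.td]
    congr 1
    rw [(Commute.refl d).mul_pow, ← pow_add, ← two_mul, ← pow_succ']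
    congr 2
    omega
  rw [h1, h.tc, ← h.cr, mul_inv_cancel_right]

theorem CaseA8.ii : (b * w) * (b * w) = 1 := by
  calc (b * w) * (b * w) = b * (w * b) * w := by group
    _ = b * b * (w * w) := by rw [h.wb]; group
    _ = 1 := by rw [h.sit.qr.bb, h.ww, h.sit.qr.zz]

theorem CaseA8.wk_pow (n : ℕ) : w * k ^ n = (k ^ n)⁻¹ * w := by
  have h1 : w * k * w⁻¹ = k⁻¹ := by rw [h.wk, mul_inv_cancel_right]
  have h2 : w * k ^ n * w⁻¹ = (k ^ n)⁻¹ := by rw [← conj_pow, h1, inv_pow]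
  exact mul_inv_eq_iff_eq_mul.mp h2

theorem CaseA8.wk_zpow (n : ℤ) : w * k ^ n = (k ^ n)⁻¹ * w := by
  have h1 : w * k * w⁻¹ = k⁻¹ := by rw [h.wk, mul_inv_cancel_right]
  have h2 : w * k ^ n * w⁻¹ = (k ^ n)⁻¹ := by rw [← conj_zpow, h1, inv_zpow]
  exact mul_inv_eq_iff_eq_mul.mp h2

theorem CaseA8.wc : w * c = c⁻¹ * w := by rw [h.c_eq]; exact h.wk_pow _

theorem CaseA8.bwS : b * w ∈ S := mul_mem h.sit.bS h.wS

theorem CaseA8.bwt : b * w ∈ CS S t := by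
  refine mem_cent.mpr ⟨h.bwS, ?_⟩
  have h1 : t⁻¹ = t := inv_eq_of_mul_eq_one_right h.tt
  calc b * w * t = b * (w * r) * c := by rw [h.tc]; group
    _ = b * r * (w * c) := by rw [h.wr]; group
    _ = r⁻¹ * b * (c⁻¹ * w) := by rw [h.wc, h.sit.qr.br]
    _ = r⁻¹ * (b * c⁻¹) * w := by group
    _ = r⁻¹ * (c⁻¹ * b) * w := by rw [(show Commute b c⁻¹ from (show Commute b c from h.cb.symm).inv_right).eq]
    _ = (c * r)⁻¹ * (b * w) := by group
    _ = t⁻¹ * (b * w) := by rw [h.cr, ← h.tc]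
    _ = t * (b * w) := by rw [h1]

theorem CaseA8.M_pow {x : Ω} (hx : x ∈ Subgroup.zpowers a ⊔ Subgroup.zpowers d) : x ^ 2 ^ m = 1 := by
  obtain ⟨i, j, rfl⟩ := h.mem_M.mp hx
  have hc : Commute d a := h.da
  rw [(hc.symm.pow_pow i j).mul_pow, ← pow_mul, ← pow_mul, mul_comm i, mul_comm j, pow_mul, pow_mul, h.sit.qr.a_two_pow,
    h.d_two_pow, one_pow, one_pow, one_mul]

theorem CaseA8.inv : ∀ x ∈ Subgroup.zpowers a ⊔ Subgroup.zpowers d, (b * w) * x = x⁻¹ * (b * w) := by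
  obtain ⟨i, hi⟩ := h.pow _ h.bwt
  have h1 : (b * w) * a * (b * w)⁻¹ = a⁻¹ := by
    calc (b * w) * a * (b * w)⁻¹ = b * (w * a) * w⁻¹ * b⁻¹ := by group
      _ = b * a * b⁻¹ := by rw [h.wa]; group
      _ = a⁻¹ := by rw [h.sit.qr.ba, mul_inv_cancel_right]
  have h2 : a ^ (i + 1) = 1 := by
    have h3 := hi a h.aM
    rw [h1] at h3
    rw [pow_succ, ← h3, inv_mul_cancel]
  have h3 : 2 ^ m ∣ i + 1 := by rw [← h.sit.qr.oa]; exact orderOf_dvd_of_pow_eq_one h2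
  intro x hx
  have h4 : x ^ (i + 1) = 1 := by
    obtain ⟨l, hl⟩ := h3
    rw [hl, pow_mul, h.M_pow hx, one_pow]
  have h5 : x ^ i = x⁻¹ := by
    rw [pow_succ] at h4
    exact eq_inv_of_mul_eq_one_left h4
  have h6 := hi x hx
  rw [h5] at h6
  exact mul_inv_eq_iff_eq_mul.mp h6

theorem CaseA8.ainv : b * a⁻¹ * b⁻¹ = a := by
  have h1 : b * a * b⁻¹ = a⁻¹ := by rw [h.sit.qr.ba, mul_inv_cancel_right]
  calc b * a⁻¹ * b⁻¹ = (b * a * b⁻¹)⁻¹ := by group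
    _ = a := by rw [h1, inv_inv]

theorem CaseA8.bdb : b * d * b⁻¹ = d * a⁻¹ := by rw [h.bd, mul_inv_cancel_right]

theorem CaseA8.bd' : b⁻¹ * d * b = d * a⁻¹ := by
  have h2 : b * (d * a⁻¹) * b⁻¹ = d := by
    calc b * (d * a⁻¹) * b⁻¹ = (b * d * b⁻¹) * (b * a⁻¹ * b⁻¹) := by group
      _ = d := by rw [h.bdb, h.ainv]; group
  calc b⁻¹ * d * b = b⁻¹ * (b * (d * a⁻¹) * b⁻¹) * b := by rw [h2]
    _ = d * a⁻¹ := by group

theorem CaseA8.wd : w * d = d⁻¹ * a * w := by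
  have hc : Commute d a := h.da
  calc w * d = b⁻¹ * ((b * w) * d) := by group
    _ = (b⁻¹ * d * b)⁻¹ * w := by rw [h.inv d h.dM]; group
    _ = a * d⁻¹ * w := by rw [h.bd']; group
    _ = d⁻¹ * a * w := by rw [hc.inv_left.eq]

/-- `b d = d (b a)` -/
theorem CaseA8.bd2 : b * d = d * (b * a) := by rw [h.bd, h.sit.qr.ba]; group

/-- `w d = d (w k)` -/
theorem CaseA8.wd2 : w * d = d * (w * k) := by
  have hc : Commute d a := h.da
  have hk : Commute d k := h.dk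
  rw [h.wd, h.wk]
  have h1 : d⁻¹ * a = d * k⁻¹ := by
    rw [eq_mul_inv_iff_mul_eq, h.hk]
    calc d⁻¹ * a * (d * d * a⁻¹) = d⁻¹ * (a * (d * d)) * a⁻¹ := by group
      _ = d := by rw [(hc.symm.mul_right hc.symm).eq]; group
  rw [h1]; group

theorem CaseA8.db : d * b = b * d * a⁻¹ := by
  have h1 := h.bd'
  calc d * b = b * (b⁻¹ * d * b) := by group
    _ = b * d * a⁻¹ := by rw [h1]; group

theorem CaseA8.dw : d * w = w * d * k⁻¹ := by
  have h1 : d * w = w * (w⁻¹ * d * w) := by group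
  have h2 : w * (d * k⁻¹) * w⁻¹ = d := by
    calc w * (d * k⁻¹) * w⁻¹ = (w * d) * k⁻¹ * w⁻¹ := by group
      _ = d * (w * k) * k⁻¹ * w⁻¹ := by rw [h.wd2]
      _ = d := by group
  calc d * w = w * (d * k⁻¹) * w⁻¹ * w := by rw [h2]
    _ = w * d * k⁻¹ := by group

theorem CaseA8.tz : b * t * b⁻¹ = t * z := h.bt

theorem CaseA8.wt : w * t * w⁻¹ = t * z := by
  have h1 : (b * w) * t * (b * w)⁻¹ = t := by rw [(mem_cent.mp h.bwt).2, mul_inv_cancel_right]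
  have h2 : w * t * w⁻¹ = b⁻¹ * ((b * w) * t * (b * w)⁻¹) * b := by group
  rw [h2, h1]
  have h3 : b * (t * z) * b⁻¹ = t := by
    calc b * (t * z) * b⁻¹ = (b * t * b⁻¹) * (b * z * b⁻¹) := by group
      _ = t * z * z := by rw [h.bt, h.sit.z_centr b h.sit.bS, mul_inv_cancel_right]
      _ = t := by rw [mul_assoc, h.sit.qr.zz, mul_one]
  calc b⁻¹ * t * b = b⁻¹ * (b * (t * z) * b⁻¹) * b := by rw [h3]
    _ = t * z := by group

theorem CaseA8.b_out : b ∉ Subgroup.zpowers a ⊔ Subgroup.zpowers d := by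
  intro h1
  have h2 := h.M_comm h1 h.tM
  have h3 := h.bt
  rw [h2, mul_inv_cancel_right] at h3
  exact h.sit.qr.z_ne (mul_eq_left.mp h3.symm)

theorem CaseA8.w_out : w ∉ Subgroup.zpowers a ⊔ Subgroup.zpowers d := by
  intro h1
  have h2 := h.M_comm h1 h.tM
  have h3 := h.wt
  rw [h2, mul_inv_cancel_right] at h3
  exact h.sit.qr.z_ne (mul_eq_left.mp h3.symm)

theorem CaseA8.a_ne_inv : a⁻¹ ≠ a := by
  intro h1
  apply h.sit.qr.a_four
  have h2 : a * a = 1 := by nth_rewrite 1 [← h1]; group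
  have h3 : a ^ 4 = a * a * (a * a) := by simp only [pow_succ, pow_zero]; group
  rw [h3, h2, one_mul]

theorem CaseA8.bw_out : b * w ∉ Subgroup.zpowers a ⊔ Subgroup.zpowers d := by
  intro h1
  have h2 := h.M_comm h1 h.aM
  rw [h.inv a h.aM] at h2
  exact h.a_ne_inv (mul_right_cancel h2)

theorem CaseA8.not_comm_b {x : Ω} (hx : x ∈ Subgroup.zpowers a ⊔ Subgroup.zpowers d) : x * b ∉ CS S t := by
  intro h1
  have h2 : b ∈ CS S t := by simpa using mul_mem (inv_mem (h.MC hx)) h1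
  have h3 := h.bt
  rw [(mem_cent.mp h2).2, mul_inv_cancel_right] at h3
  exact h.sit.qr.z_ne (mul_eq_left.mp h3.symm)

theorem CaseA8.not_comm_w {x : Ω} (hx : x ∈ Subgroup.zpowers a ⊔ Subgroup.zpowers d) : x * w ∉ CS S t := by
  intro h1
  have h2 : w ∈ CS S t := by simpa using mul_mem (inv_mem (h.MC hx)) h1
  have h3 := h.wt
  rw [(mem_cent.mp h2).2, mul_inv_cancel_right] at h3
  exact h.sit.qr.z_ne (mul_eq_left.mp h3.symm)

theorem CaseA8.CSt (s : Ω) : s ∈ CS S t ↔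
    s ∈ Subgroup.zpowers a ⊔ Subgroup.zpowers d ∨ ∃ x ∈ Subgroup.zpowers a ⊔ Subgroup.zpowers d, s = x * (b * w) := by
  constructor
  · intro hs
    obtain ⟨x, hx, rfl | rfl | rfl | rfl⟩ := h.gen s (mem_cent.mp hs).1
    · exact Or.inl hx
    · exact absurd hs (h.not_comm_b hx)
    · exact absurd hs (h.not_comm_w hx)
    · exact Or.inr ⟨x, hx, rfl⟩
  · rintro (hs | ⟨x, hx, rfl⟩)
    · exact h.MC hs
    · exact mul_mem (h.MC hx) h.bwt

theorem CaseA8.k_half : k ^ 2 ^ (m - 1) = z := by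
  have hm := h.sit.qr.m3
  have h1 : 2 ^ (m - 1) = 2 ^ (m - 2) + 2 ^ (m - 2) := by rw [← two_mul, ← pow_succ']; congr 1; omega
  rw [h1, pow_add, ← h.c_eq, h.cc]

/-- `M = ⟨a, k⟩ ∪ ⟨a, k⟩ d` -/
theorem CaseA8.M_cases {x : Ω} (hx : x ∈ Subgroup.zpowers a ⊔ Subgroup.zpowers d) :
    ∃ i j : ℤ, x = a ^ i * k ^ j ∨ x = a ^ i * k ^ j * d := by
  obtain ⟨i, j, rfl⟩ := h.mem_Mz.mp hx
  have hc : Commute k a := h.ka
  have h1 : ∀ l : ℤ, d ^ (2 * l) = a ^ l * k ^ l := by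
    intro l
    rw [zpow_mul, zpow_two, h.dd, hc.mul_zpow, (hc.zpow_zpow l l).eq]
  rcases Int.even_or_odd' j with ⟨l, rfl | rfl⟩
  · exact ⟨i + l, l, Or.inl (by rw [h1, ← mul_assoc, zpow_add])⟩
  · exact ⟨i + l, l, Or.inr (by rw [zpow_add d, h1, zpow_one, ← mul_assoc, ← mul_assoc, zpow_add])⟩

theorem CaseA8.kM : k ∈ Subgroup.zpowers a ⊔ Subgroup.zpowers d := by
  rw [h.hk]; exact mul_mem (mul_mem h.dM h.dM) (inv_mem h.aM)

/-- every element of `S` is `ρ κ` or `ρ κ d`, `ρ ∈ R`, `κ ∈ K`. -/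
theorem CaseA8.RK_cases {s : Ω} (hs : s ∈ S) :
    ∃ ρ ∈ R, ∃ κ ∈ centralizerIn S R, s = ρ * κ ∨ s = ρ * κ * d := by
  have haR : ∀ i : ℤ, a ^ i ∈ R := fun i => Subgroup.zpow_mem _ h.sit.qr.aR i
  have hkK : ∀ i : ℤ, k ^ i ∈ centralizerIn S R := fun i => Subgroup.zpow_mem _ h.kK i
  obtain ⟨x, hx, hs⟩ := h.gen s hs
  obtain ⟨i, j, hx⟩ := h.M_cases hx
  have e1 : ∀ j : ℤ, k ^ j * b = b * k ^ j := fun j => ((show Commute k b from h.kb).zpow_left j).eq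
  rcases hx with rfl | rfl
  · rcases hs with rfl | rfl | rfl | rfl
    · exact ⟨_, haR i, _, hkK j, Or.inl rfl⟩
    · exact ⟨a ^ i * b, mul_mem (haR i) h.sit.qr.bR, _, hkK j, Or.inl (by rw [mul_assoc, e1, mul_assoc])⟩
    · exact ⟨_, haR i, k ^ j * w, mul_mem (hkK j) h.wK, Or.inl (by rw [mul_assoc])⟩
    · refine ⟨a ^ i * b, mul_mem (haR i) h.sit.qr.bR, k ^ j * w, mul_mem (hkK j) h.wK, Or.inl ?_⟩
      calc a ^ i * k ^ j * (b * w) = a ^ i * (k ^ j * b) * w := by group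
        _ = _ := by rw [e1]; group
  · have e2 : d * b = b * a⁻¹ * d := by
      rw [h.db, mul_assoc, mul_assoc, (show Commute d a from h.da).inv_right.eq]
    have e3 : d * w = w * k⁻¹ * d := by
      rw [h.dw, mul_assoc, mul_assoc, (show Commute d k from h.dk).inv_right.eq]
    have hbR : b * a⁻¹ ∈ R := mul_mem h.sit.qr.bR (inv_mem h.sit.qr.aR)
    have hwK : w * k⁻¹ ∈ centralizerIn S R := mul_mem h.wK (inv_mem h.kK)
    have e4 : ∀ y ∈ R, ∀ κ ∈ centralizerIn S R, κ * y = y * κ := fun y hy κ hκ => (mem_centK.mp hκ).2 y hy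
    rcases hs with rfl | rfl | rfl | rfl
    · exact ⟨_, haR i, _, hkK j, Or.inr rfl⟩
    · refine ⟨a ^ i * (b * a⁻¹), mul_mem (haR i) hbR, _, hkK j, Or.inr ?_⟩
      calc a ^ i * k ^ j * d * b = a ^ i * k ^ j * (d * b) := by group
        _ = a ^ i * (k ^ j * (b * a⁻¹)) * d := by rw [e2]; group
        _ = _ := by rw [e4 _ hbR _ (hkK j)]; group
    · refine ⟨_, haR i, k ^ j * (w * k⁻¹), mul_mem (hkK j) hwK, Or.inr ?_⟩
      calc a ^ i * k ^ j * d * w = a ^ i * k ^ j * (d * w) := by group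
        _ = _ := by rw [e3]; group
    · refine ⟨a ^ i * (b * a⁻¹), mul_mem (haR i) hbR, k ^ j * (w * k⁻¹), mul_mem (hkK j) hwK, Or.inr ?_⟩
      calc a ^ i * k ^ j * d * (b * w) = a ^ i * k ^ j * (d * b) * w := by group
        _ = a ^ i * (k ^ j * (b * a⁻¹)) * (d * w) := by rw [e2]; group
        _ = a ^ i * ((b * a⁻¹) * k ^ j) * (w * k⁻¹ * d) := by rw [e4 _ hbR _ (hkK j), e3]
        _ = _ := by group

end

end Cfsg.Agent.H784.Q
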